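/-
The limit at infinity of the conjugates of an additive subgroup of square zero elements by `1 + t δ` (`δ² = 0`):
it has at least the same order, kills at least as much, and lies deeper in every filtration lowered by `δ`,
strictly so unless the subgroup is invariant.
-/
import Mathlib.Algebra.Polynomial.BigOperators
import Mathlib.GroupTheory.Index
import Mathlib.Tactic

set_option autoImplicit false
set_option linter.unusedSectionVars false

namespace Cfsg.Agent.QuadLimit

open Polynomial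

variable {R : Type*} [Ring R] [Finite R]

/-- The polynomials with coefficients in `B`. -/
def polyIn (B : AddSubgroup R) : AddSubgroup R[X] where
  carrier := {f | ∀ k, f.coeff k ∈ B}
  zero_mem' := fun k => by rw [coeff_zero]; exact zero_mem B
  add_mem' := fun hf hg k => by rw [coeff_add]; exact add_mem (hf k) (hg k)
  neg_mem' := fun hf k => by rw [coeff_neg]; exact neg_mem (hf k)

theorem X_mul_mem {B : AddSubgroup R} {f : R[X]} (hf : f ∈ polyIn B) : X * f ∈ polyIn B := fun k => by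
  rcases k with - | k
  · simp
  · rw [coeff_X_mul]; exact hf k

theorem C_mem {B : AddSubgroup R} {a : R} (ha : a ∈ B) : C a ∈ polyIn B := fun k => by
  rw [coeff_C]
  split_ifs
  · exact ha
  · exact zero_mem B

theorem card_le_pow (S : AddSubgroup R) : ∀ (N : ℕ) (Y : AddSubgroup R[X]),
    (∀ f ∈ Y, f.natDegree ≤ N) → (∀ f ∈ Y, ∀ k, f.natDegree ≤ k → k ≤ N → f.coeff k ∈ S) →
    Finite Y ∧ Nat.card Y ≤ Nat.card S ^ (N + 1) := by
  intro N
  induction N with
  | zero =>
    intro Y hd hS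
    let g : Y → S := fun f => ⟨(f : R[X]).coeff 0, hS f f.2 0 (hd f f.2) le_rfl⟩
    have hg : Function.Injective g := by
      rintro ⟨f, hf⟩ ⟨f', hf'⟩ h
      have h' : f.coeff 0 = f'.coeff 0 := congrArg Subtype.val h
      refine Subtype.ext ?_
      show f = f'
      rw [eq_C_of_natDegree_le_zero (hd f hf), eq_C_of_natDegree_le_zero (hd f' hf'), h']
    exact ⟨Finite.of_injective g hg, by rw [zero_add, pow_one]; exact Nat.card_le_card_of_injective g hg⟩
  | succ N ih =>
    intro Y hd hS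
    let π : Y →+ R := AddMonoidHom.mk' (fun f => (f : R[X]).coeff (N + 1)) fun f g => coeff_add _ _ _
    have hle : ∀ f ∈ π.ker.map Y.subtype, f.natDegree ≤ N := by
      rintro _ ⟨f, hf, rfl⟩
      refine natDegree_le_iff_coeff_eq_zero.2 fun k hk => ?_
      rcases Nat.lt_or_ge (N + 1) k with h | h
      · exact coeff_eq_zero_of_natDegree_lt (lt_of_le_of_lt (hd _ f.2) h)
      · rw [show k = N + 1 by omega]; exact hf
    have hkS : ∀ f ∈ π.ker.map Y.subtype, ∀ k, f.natDegree ≤ k → k ≤ N → f.coeff k ∈ S := by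
      rintro _ ⟨f, -, rfl⟩ k hk hkN
      exact hS _ f.2 k hk (by omega)
    obtain ⟨hfin, hcard⟩ := ih _ hle hkS
    have e := AddSubgroup.equivMapOfInjective π.ker Y.subtype Subtype.val_injective
    have hkfin : Finite π.ker := Finite.of_equiv _ e.symm.toEquiv
    have hker : Nat.card π.ker ≤ Nat.card S ^ (N + 1) := (Nat.card_congr e.toEquiv).trans_le hcard
    have hrange : π.range ≤ S := by
      rintro _ ⟨f, rfl⟩
      exact hS _ f.2 _ (hd _ f.2) le_rfl
    have h1 := AddSubgroup.card_mul_index π.ker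
    rw [AddSubgroup.index_ker] at h1
    refine ⟨Nat.finite_of_card_ne_zero (by rw [← h1]; exact Nat.mul_ne_zero Nat.card_pos.ne' Nat.card_pos.ne'), ?_⟩
    rw [← h1, pow_succ]
    exact Nat.mul_le_mul hker (Nat.card_le_card_of_injective _ (AddSubgroup.inclusion_injective hrange))

theorem le_of_pow_le {b s : ℕ} (hs : 1 ≤ s) (h : ∀ N, b ^ (N + 1) ≤ s ^ (N + 3)) : b ≤ s := by
  by_contra hlt
  push Not at hlt
  have hb : ∀ n, s ^ (n + 1) + (n + 1) * s ^ n ≤ (s + 1) ^ (n + 1) := by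
    intro n
    induction n with
    | zero => simp
    | succ n ih =>
      calc s ^ (n + 1 + 1) + (n + 1 + 1) * s ^ (n + 1)
          ≤ (s + 1) * (s ^ (n + 1) + (n + 1) * s ^ n) := by
            have : 0 ≤ (n + 1) * s ^ n := Nat.zero_le _
            ring_nf; omega
        _ ≤ (s + 1) * (s + 1) ^ (n + 1) := Nat.mul_le_mul_left _ ih
        _ = _ := by ring
  have h1 := (hb (s ^ 3)).trans ((Nat.pow_le_pow_left hlt _).trans (h (s ^ 3)))
  have h2 : (s ^ 3 + 1) * s ^ (s ^ 3) = s ^ (s ^ 3 + 3) + s ^ (s ^ 3) := by ring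
  have h3 : 0 < s ^ (s ^ 3) := pow_pos (by omega) _
  have h4 : 0 ≤ s ^ (s ^ 3 + 1) := Nat.zero_le _
  omega

/-- The top coefficients of the members of `M`. -/
def top (M : AddSubgroup R[X]) (hM : ∀ f ∈ M, X * f ∈ M) : AddSubgroup R where
  carrier := {x | ∃ N : ℕ, ∃ f ∈ M, f.natDegree ≤ N ∧ f.coeff N = x}
  zero_mem' := ⟨0, 0, zero_mem M, by simp, by simp⟩
  add_mem' := by
    rintro _ _ ⟨N, f, hf, hfN, rfl⟩ ⟨N', g, hg, hgN, rfl⟩
    have hpow : ∀ (k : ℕ) {h : R[X]}, h ∈ M → X ^ k * h ∈ M := fun k => by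
      induction k with
      | zero => simp
      | succ k ih => intro h hh; rw [pow_succ', mul_assoc]; exact hM _ (ih hh)
    have hdeg : ∀ (k : ℕ) (h : R[X]), (X ^ k * h).natDegree ≤ k + h.natDegree := fun k h =>
      natDegree_mul_le.trans (by have := natDegree_X_pow_le (R := R) k; omega)
    refine ⟨N + N', X ^ N' * f + X ^ N * g, add_mem (hpow _ hf) (hpow _ hg), ?_, ?_⟩
    · refine (natDegree_add_le _ _).trans (max_le ?_ ?_)
      · exact (hdeg _ _).trans (by omega)
      · exact (hdeg _ _).trans (by omega)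
    · rw [coeff_add, coeff_X_pow_mul, add_comm N N', coeff_X_pow_mul]
  neg_mem' := by
    rintro _ ⟨N, f, hf, hfN, rfl⟩
    exact ⟨N, -f, neg_mem hf, by rwa [natDegree_neg], coeff_neg f N⟩

theorem card_le_top (B : AddSubgroup R) (φ : R[X] →+ R[X]) (hinj : Function.Injective φ)
    (hdeg : ∀ f, (φ f).natDegree ≤ f.natDegree + 2) (hM : ∀ f ∈ (polyIn B).map φ, X * f ∈ (polyIn B).map φ) :
    Nat.card B ≤ Nat.card (top _ hM) := by
  refine le_of_pow_le Nat.card_pos fun N => ?_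
  let Y : AddSubgroup R[X] :=
    { carrier := {f | f ∈ (polyIn B).map φ ∧ f.natDegree ≤ N + 2}
      zero_mem' := ⟨zero_mem _, by simp⟩
      add_mem' := fun hf hg => ⟨add_mem hf.1 hg.1, (natDegree_add_le _ _).trans (max_le hf.2 hg.2)⟩
      neg_mem' := fun hf => ⟨neg_mem hf.1, by rw [natDegree_neg]; exact hf.2⟩ }
  obtain ⟨hfin, hY⟩ := card_le_pow (top _ hM) (N + 2) Y (fun f hf => hf.2)
    fun f hf k hk _ => ⟨k, f, hf.1, hk, rfl⟩
  let P : (Fin (N + 1) → B) → R[X] := fun c => ∑ i : Fin (N + 1), monomial (i : ℕ) (c i : R)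
  have hPc : ∀ (c : Fin (N + 1) → B) (k : ℕ), (P c).coeff k = if h : k < N + 1 then (c ⟨k, h⟩ : R) else 0 := by
    intro c k
    simp only [P, finsetSum_coeff, coeff_monomial]
    split_ifs with h
    · rw [Finset.sum_eq_single (⟨k, h⟩ : Fin (N + 1))] <;>
        simp +contextual [Fin.ext_iff]
    · exact Finset.sum_eq_zero fun i _ => by rw [if_neg (by omega)]
  have hPB : ∀ c, P c ∈ polyIn B := fun c k => by
    rw [hPc]; split_ifs with h
    · exact (c ⟨k, h⟩).2
    · exact zero_mem B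
  have hPd : ∀ c, (P c).natDegree ≤ N := fun c => natDegree_le_iff_coeff_eq_zero.2 fun k hk => by
    rw [hPc, dif_neg (by omega)]
  let g : (Fin (N + 1) → B) → Y := fun c =>
    ⟨φ (P c), ⟨P c, hPB c, rfl⟩, (hdeg _).trans (by have := hPd c; omega)⟩
  have hg : Function.Injective g := by
    intro c c' h
    have h1 := hinj (congrArg Subtype.val h)
    funext i
    have h2 := congrArg (fun f : R[X] => f.coeff (i : ℕ)) h1
    simp only [hPc, dif_pos i.2] at h2
    exact Subtype.ext h2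
  have := (Nat.card_le_card_of_injective g hg).trans hY
  simpa [Nat.card_fun] using this

theorem mul_eq_zero_of_polyIn {B D : AddSubgroup R} (h : ∀ a ∈ B, ∀ b ∈ D, a * b = 0) {f g : R[X]}
    (hf : f ∈ polyIn B) (hg : g ∈ polyIn D) : f * g = 0 := by
  ext k
  rw [coeff_mul, coeff_zero]
  exact Finset.sum_eq_zero fun ij _ => h _ (hf _) _ (hg _)

section Conj

variable (δ : R)

/-- `1 + t δ`. -/
noncomputable def uu : R[X] := 1 + C δ * X

/-- Conjugation by `1 + t δ` for `δ² = 0`. -/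
noncomputable def cj : R[X] →+ R[X] :=
  AddMonoidHom.mk' (fun f => uu δ * f * uu (-δ)) fun f g => by rw [mul_add, add_mul]

/-- Multiplication by `1 + t δ`. -/
noncomputable def lm : R[X] →+ R[X] := AddMonoidHom.mk' (fun f => uu δ * f) fun f g => mul_add _ _ _

variable {δ}

theorem uu_mul (hδ : δ * δ = 0) : uu (-δ) * uu δ = 1 := by
  have h : C (-δ) * X * (C δ * X) = (0 : R[X]) := by
    rw [mul_assoc (C (-δ)), ← mul_assoc X, X_mul, mul_assoc (C δ), ← mul_assoc, ← C_mul, neg_mul, hδ, neg_zero,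
      C_0, zero_mul]
  rw [uu, uu, mul_add, add_mul, add_mul, one_mul, mul_one, one_mul, h, C_neg, neg_mul]
  abel

theorem uu_mul' (hδ : δ * δ = 0) : uu δ * uu (-δ) = 1 := by
  have := uu_mul (δ := -δ) (by rw [neg_mul_neg, hδ])
  rwa [neg_neg] at this

theorem X_uu (x : R) (f : R[X]) : X * (uu x * f) = uu x * (X * f) := by
  rw [← mul_assoc, X_mul, mul_assoc]

theorem cj_X (f : R[X]) : X * cj δ f = cj δ (X * f) := by
  show X * (uu δ * f * uu (-δ)) = uu δ * (X * f) * uu (-δ)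
  rw [← mul_assoc X, X_uu]

theorem cj_closed (B : AddSubgroup R) : ∀ f ∈ (polyIn B).map (cj δ), X * f ∈ (polyIn B).map (cj δ) := by
  rintro _ ⟨f, hf, rfl⟩
  exact ⟨X * f, X_mul_mem hf, (cj_X f).symm⟩

theorem lm_closed (B : AddSubgroup R) : ∀ f ∈ (polyIn B).map (lm δ), X * f ∈ (polyIn B).map (lm δ) := by
  rintro _ ⟨f, hf, rfl⟩
  exact ⟨X * f, X_mul_mem hf, (X_uu δ f).symm⟩

theorem natDegree_uu (x : R) : (uu x).natDegree ≤ 1 :=
  (natDegree_add_le _ _).trans (max_le (by simp) ((natDegree_C_mul_le _ _).trans natDegree_X_le))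

theorem cj_deg (f : R[X]) : (cj δ f).natDegree ≤ f.natDegree + 2 := by
  refine natDegree_mul_le.trans ?_
  have h1 := natDegree_mul_le (p := uu δ) (q := f)
  have h2 := natDegree_uu δ
  have h3 := natDegree_uu (-δ)
  omega

theorem lm_deg (f : R[X]) : (lm δ f).natDegree ≤ f.natDegree + 2 := by
  refine natDegree_mul_le.trans ?_
  have h2 := natDegree_uu δ
  omega

theorem cj_inj (hδ : δ * δ = 0) : Function.Injective (cj δ) := by
  intro f g h
  have h' : uu (-δ) * (uu δ * f * uu (-δ)) * uu δ = uu (-δ) * (uu δ * g * uu (-δ)) * uu δ :=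
    congrArg (fun z => uu (-δ) * z * uu δ) h
  simpa [← mul_assoc, uu_mul hδ, mul_assoc _ (uu (-δ)) (uu δ)] using h'

theorem lm_inj (hδ : δ * δ = 0) : Function.Injective (lm δ) := by
  intro f g h
  have h' : uu (-δ) * (uu δ * f) = uu (-δ) * (uu δ * g) := congrArg (uu (-δ) * ·) h
  simpa [← mul_assoc, uu_mul hδ] using h'

theorem cj_expand (f : R[X]) :
    cj δ f = f + X * (C δ * f - f * C δ) - X * (X * (C δ * f * C δ)) := by
  show uu δ * f * uu (-δ) = _
  have hX : ∀ g : R[X], g * X = X * g := fun g => (X_mul (p := g)).symm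
  have hsw : ∀ g h : R[X], g * (X * h) = X * (g * h) := fun g h => by rw [← mul_assoc, hX g, mul_assoc]
  rw [uu, uu, C_neg, neg_mul, hX (C δ)]
  simp only [add_mul, mul_add, one_mul, mul_one, mul_neg, mul_assoc, mul_sub, hsw]
  abel

/-- The limit of the conjugates of `B`. -/
noncomputable def limit (δ : R) (B : AddSubgroup R) : AddSubgroup R := top _ (cj_closed (δ := δ) B)

theorem limit_mul (hδ : δ * δ = 0) {B D : AddSubgroup R} (h : ∀ a ∈ B, ∀ b ∈ D, a * b = 0) {x y : R}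
    (hx : x ∈ limit δ B) (hy : y ∈ limit δ D) : x * y = 0 := by
  obtain ⟨N, _, ⟨f, hf, rfl⟩, hfN, rfl⟩ := hx
  obtain ⟨N', _, ⟨g, hg, rfl⟩, hgN, rfl⟩ := hy
  rw [← coeff_mul_add_eq_of_natDegree_le hfN hgN]
  have : cj δ f * cj δ g = 0 := by
    show uu δ * f * uu (-δ) * (uu δ * g * uu (-δ)) = 0
    rw [show uu δ * f * uu (-δ) * (uu δ * g * uu (-δ)) = uu δ * f * (uu (-δ) * uu δ) * g * uu (-δ) by
      simp only [mul_assoc], uu_mul hδ, mul_one, mul_assoc (uu δ), mul_eq_zero_of_polyIn h hf hg, mul_zero,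
      zero_mul]
  rw [this, coeff_zero]

/-- The limit kills at least as much. -/
theorem card_kills (hδ : δ * δ = 0) (B K K' : AddSubgroup R) (hK : ∀ a ∈ B, ∀ b ∈ K, a * b = 0)
    (hK' : ∀ y, (∀ x ∈ limit δ B, x * y = 0) → y ∈ K') : Nat.card K ≤ Nat.card K' := by
  refine (card_le_top K (lm δ) (lm_inj hδ) lm_deg (lm_closed K)).trans ?_
  refine Nat.card_le_card_of_injective _ (AddSubgroup.inclusion_injective fun y hy => hK' y fun x hx => ?_)
  obtain ⟨N, _, ⟨f, hf, rfl⟩, hfN, rfl⟩ := hx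
  obtain ⟨N', _, ⟨g, hg, rfl⟩, hgN, rfl⟩ := hy
  rw [← coeff_mul_add_eq_of_natDegree_le hfN hgN]
  have : cj δ f * lm δ g = 0 := by
    show uu δ * f * uu (-δ) * (uu δ * g) = 0
    rw [show uu δ * f * uu (-δ) * (uu δ * g) = uu δ * f * (uu (-δ) * uu δ) * g by simp only [mul_assoc],
      uu_mul hδ, mul_one, mul_assoc (uu δ), mul_eq_zero_of_polyIn hK hf hg, mul_zero]
  rw [this, coeff_zero]

theorem card_limit (hδ : δ * δ = 0) (B : AddSubgroup R) : Nat.card B ≤ Nat.card (limit δ B) :=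
  card_le_top B (cj δ) (cj_inj hδ) cj_deg (cj_closed B)

theorem coeff_cj_mem {B D : AddSubgroup R} (h0 : B ≤ D) (h1 : ∀ x ∈ B, δ * x - x * δ ∈ D)
    (h2 : ∀ x ∈ B, δ * x * δ ∈ D) {f : R[X]} (hf : f ∈ polyIn B) : cj δ f ∈ polyIn D := by
  rw [cj_expand]
  refine sub_mem (add_mem (fun k => h0 (hf k)) (X_mul_mem fun k => ?_)) (X_mul_mem (X_mul_mem fun k => ?_))
  · rw [coeff_sub, coeff_C_mul, coeff_mul_C]; exact h1 _ (hf k)
  · rw [coeff_mul_C, coeff_C_mul]; exact h2 _ (hf k)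

theorem limit_le {B D : AddSubgroup R} (h0 : B ≤ D) (h1 : ∀ x ∈ B, δ * x - x * δ ∈ D)
    (h2 : ∀ x ∈ B, δ * x * δ ∈ D) : limit δ B ≤ D := by
  rintro _ ⟨N, _, ⟨f, hf, rfl⟩, -, rfl⟩
  exact coeff_cj_mem h0 h1 h2 hf N

theorem limit_mono {B D : AddSubgroup R} (h : B ≤ D) : limit δ B ≤ limit δ D := by
  rintro _ ⟨N, _, ⟨f, hf, rfl⟩, hN, rfl⟩
  exact ⟨N, _, ⟨f, fun k => h (hf k), rfl⟩, hN, rfl⟩

variable (hδ : δ * δ = 0) (F : ℕ → AddSubgroup R) (hmono : ∀ c, F (c + 1) ≤ F c)
  (hl : ∀ c, ∀ x ∈ F c, δ * x ∈ F (c + 1)) (hr : ∀ c, ∀ x ∈ F c, x * δ ∈ F (c + 1))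
include hδ hmono hl hr

theorem limit_inf_le (B : AddSubgroup R) (c : ℕ) : limit δ (B ⊓ F c) ≤ limit δ B ⊓ F c :=
  le_inf (limit_mono inf_le_left) (limit_le inf_le_right
    (fun x hx => sub_mem (hmono c (hl c x hx.2)) (hmono c (hr c x hx.2)))
    fun x hx => hmono c (hmono _ (hr _ _ (hl c x hx.2))))

theorem card_inf_le (B : AddSubgroup R) (c : ℕ) :
    Nat.card ↥(B ⊓ F c) ≤ Nat.card ↥(limit δ B ⊓ F c) :=
  (card_limit hδ _).trans
    (Nat.card_le_card_of_injective _ (AddSubgroup.inclusion_injective (limit_inf_le hδ F hmono hl hr B c)))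

/-- If the limit is no deeper than `B` then `B` is invariant. -/
theorem invariant (B : AddSubgroup R) {n : ℕ} (hn : F n = ⊥)
    (heq : ∀ c, c < n → Nat.card ↥(limit δ B ⊓ F c) ≤ Nat.card ↥(B ⊓ F c)) :
    ∀ c, c ≤ n → ∀ a ∈ B ⊓ F c, δ * a - a * δ ∈ B ⊓ F c ∧ δ * a * δ ∈ B ⊓ F c := by
  intro c hc
  induction hd : n - c generalizing c with
  | zero =>
    obtain rfl : c = n := by omega
    intro a ha
    obtain ⟨-, ha2⟩ := ha
    have ha2 : a = 0 := by rw [hn] at ha2; exact ha2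
    subst ha2
    simp only [mul_zero, zero_mul, sub_zero]
    exact ⟨zero_mem _, zero_mem _⟩
  | succ d ih =>
    have ih' := ih (c + 1) (by omega) (by omega)
    set B' := B ⊓ F (c + 1) with hB'
    -- deeper part of `B` lies in the limit
    have hB'S : B' ≤ limit δ B ⊓ F (c + 1) := by
      intro a ha
      refine ⟨⟨0, C a, ?_, by simp, by simp⟩, ha.2⟩
      refine ⟨cj (-δ) (C a), fun k => (coeff_cj_mem (B := B') (D := B') le_rfl
        (fun x hx => by
          have := neg_mem (ih' x hx).1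
          rwa [show -(δ * x - x * δ) = -δ * x - x * -δ by rw [neg_mul, mul_neg]; abel] at this)
        (fun x hx => by rw [neg_mul, neg_mul_neg]; exact (ih' x hx).2) (C_mem ha) k).1, ?_⟩
      show uu δ * (uu (-δ) * C a * uu (- -δ)) * uu (-δ) = C a
      rw [neg_neg, show uu δ * (uu (-δ) * C a * uu δ) * uu (-δ) = (uu δ * uu (-δ)) * C a * (uu δ * uu (-δ)) by
        simp only [mul_assoc], uu_mul' hδ, one_mul, mul_one]
    have hS : limit δ B ⊓ F (c + 1) ≤ B' := by
      rcases Nat.lt_or_ge (c + 1) n with h | h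
      · exact (AddSubgroup.eq_of_le_of_card_ge hB'S (heq _ h)).ge
      · rintro x ⟨-, hx⟩
        have hx0 : x = 0 := by rw [show c + 1 = n by omega, hn] at hx; exact hx
        subst hx0; exact zero_mem _
    intro a ha
    set y1 := δ * a - a * δ
    set y2 := δ * a * δ
    have hy1F : y1 ∈ F (c + 1) := sub_mem (hl c a ha.2) (hr c a ha.2)
    have hy2F : y2 ∈ F (c + 1) := hmono _ (hr _ _ (hl c a ha.2))
    have hM : cj δ (C a) ∈ (polyIn B).map (cj δ) := ⟨C a, C_mem ha.1, rfl⟩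
    have hexp : cj δ (C a) = C a + X * C y1 - X * (X * C y2) := by
      rw [cj_expand, ← C_mul, ← C_mul, ← C_mul, ← C_sub]
    have hy2 : y2 ∈ B' := by
      refine hS ⟨?_, hy2F⟩
      refine ⟨2, -cj δ (C a), neg_mem hM, ?_, ?_⟩
      · rw [natDegree_neg]
        exact (cj_deg _).trans (by simp)
      · rw [hexp, coeff_neg, coeff_sub, coeff_add, coeff_X_mul, coeff_X_mul, coeff_X_mul, coeff_C, coeff_C,
          coeff_C]
        simp
    have hy2X : X * (X * C y2) ∈ (polyIn B).map (cj δ) := by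
      refine cj_closed B _ (cj_closed B _ ?_)
      refine ⟨cj (-δ) (C y2), fun k => (coeff_cj_mem (B := B') (D := B') le_rfl
        (fun x hx => by
          have := neg_mem (ih' x hx).1
          rwa [show -(δ * x - x * δ) = -δ * x - x * -δ by rw [neg_mul, mul_neg]; abel] at this)
        (fun x hx => by rw [neg_mul, neg_mul_neg]; exact (ih' x hx).2) (C_mem hy2) k).1, ?_⟩
      show uu δ * (uu (-δ) * C y2 * uu (- -δ)) * uu (-δ) = C y2
      rw [neg_neg, show uu δ * (uu (-δ) * C y2 * uu δ) * uu (-δ) = (uu δ * uu (-δ)) * C y2 * (uu δ * uu (-δ)) by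
        simp only [mul_assoc], uu_mul' hδ, one_mul, mul_one]
    have hy1 : y1 ∈ B' := by
      refine hS ⟨?_, hy1F⟩
      refine ⟨1, cj δ (C a) + X * (X * C y2), add_mem hM hy2X, ?_, ?_⟩
      · rw [hexp, sub_add_cancel]
        refine (natDegree_add_le _ _).trans (max_le (by simp) (natDegree_mul_le.trans ?_))
        have := natDegree_X_le (R := R)
        simp only [natDegree_C]; omega
      · rw [hexp, sub_add_cancel, coeff_add, coeff_X_mul, coeff_C, coeff_C]
        simp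
    exact ⟨⟨hy1.1, hmono c hy1.2⟩, ⟨hy2.1, hmono c hy2.2⟩⟩

end Conj

end Cfsg.Agent.QuadLimit
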