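/-
The image of a homomorphism into a ring of characteristic `p ≥ 5` contains `1 + x` for the square zero
elements `x` of the additive closure of generators `1 + a`, provided all products of four generators vanish.
-/
import Mathlib.Algebra.Algebra.ZMod
import Mathlib.Algebra.Field.ZMod
import Mathlib.Algebra.Group.Subgroup.Basic
import Mathlib.Tactic.Module
import Mathlib.Tactic.LinearCombination
import Mathlib.Tactic.NoncommRing
import Mathlib.Tactic.NormNum.Prime

set_option autoImplicit false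
set_option linter.unusedSectionVars false

namespace Cfsg.Agent.QuadLimit

variable {R : Type*} [Ring R]

/-- Products of four elements of `L` vanish. -/
def Four (L : AddSubgroup R) : Prop := ∀ a ∈ L, ∀ b ∈ L, ∀ c ∈ L, ∀ d ∈ L, a * b * c * d = 0

theorem four_closure {X : Set R} (h : ∀ a ∈ X, ∀ b ∈ X, ∀ c ∈ X, ∀ d ∈ X, a * b * c * d = 0) :
    Four (AddSubgroup.closure X) := by
  intro a ha b hb c hc d hd
  induction ha using AddSubgroup.closure_induction with
  | zero => simp
  | add x y _ _ h1 h2 => simp only [add_mul, h1, h2, add_zero]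
  | neg x _ h1 => simp only [neg_mul, h1, neg_zero]
  | mem a ha =>
    induction hb using AddSubgroup.closure_induction with
    | zero => simp
    | add x y _ _ h1 h2 => simp only [mul_add, add_mul, h1, h2, add_zero]
    | neg x _ h1 => simp only [mul_neg, neg_mul, h1, neg_zero]
    | mem b hb =>
      induction hc using AddSubgroup.closure_induction with
      | zero => simp
      | add x y _ _ h1 h2 => simp only [mul_add, add_mul, h1, h2, add_zero]
      | neg x _ h1 => simp only [mul_neg, neg_mul, h1, neg_zero]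
      | mem c hc =>
        induction hd using AddSubgroup.closure_induction with
        | zero => simp
        | add x y _ _ h1 h2 => simp only [mul_add, h1, h2, add_zero]
        | neg x _ h1 => simp only [mul_neg, h1, neg_zero]
        | mem d hd => exact h a ha b hb c hc d hd


variable (L : AddSubgroup R)

/-- Sums of products of two elements of `L`. -/
def sq : AddSubgroup R := AddSubgroup.closure {x | ∃ a ∈ L, ∃ b ∈ L, x = a * b}

/-- Sums of products of three elements of `L`. -/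
def cube : AddSubgroup R := AddSubgroup.closure {x | ∃ a ∈ L, ∃ b ∈ L, ∃ c ∈ L, x = a * b * c}

variable {L}

theorem mul_mem_sq {a b : R} (ha : a ∈ L) (hb : b ∈ L) : a * b ∈ sq L :=
  AddSubgroup.subset_closure ⟨a, ha, b, hb, rfl⟩

theorem sq_mul_mem {u a : R} (hu : u ∈ sq L) (ha : a ∈ L) : u * a ∈ cube L := by
  induction hu using AddSubgroup.closure_induction with
  | mem u hu => obtain ⟨x, hx, y, hy, rfl⟩ := hu; exact AddSubgroup.subset_closure ⟨x, hx, y, hy, a, ha, rfl⟩
  | zero => simp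
  | add x y _ _ h1 h2 => rw [add_mul]; exact add_mem h1 h2
  | neg x _ h1 => rw [neg_mul]; exact neg_mem h1

theorem mul_sq_mem {u a : R} (hu : u ∈ sq L) (ha : a ∈ L) : a * u ∈ cube L := by
  induction hu using AddSubgroup.closure_induction with
  | mem u hu =>
    obtain ⟨x, hx, y, hy, rfl⟩ := hu
    exact AddSubgroup.subset_closure ⟨a, ha, x, hx, y, hy, (mul_assoc a x y).symm⟩
  | zero => simp
  | add x y _ _ h1 h2 => rw [mul_add]; exact add_mem h1 h2
  | neg x _ h1 => rw [mul_neg]; exact neg_mem h1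

theorem cube_mul {u a : R} (h4 : Four L) (hu : u ∈ cube L) (ha : a ∈ L) : u * a = 0 := by
  induction hu using AddSubgroup.closure_induction with
  | mem u hu => obtain ⟨x, hx, y, hy, z, hz, rfl⟩ := hu; exact h4 x hx y hy z hz a ha
  | zero => simp
  | add x y _ _ h1 h2 => rw [add_mul, h1, h2, add_zero]
  | neg x _ h1 => rw [neg_mul, h1, neg_zero]

theorem mul_cube {u a : R} (h4 : Four L) (hu : u ∈ cube L) (ha : a ∈ L) : a * u = 0 := by
  induction hu using AddSubgroup.closure_induction with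
  | mem u hu =>
    obtain ⟨x, hx, y, hy, z, hz, rfl⟩ := hu
    rw [← mul_assoc, ← mul_assoc]; exact h4 a ha x hx y hy z hz
  | zero => simp
  | add x y _ _ h1 h2 => rw [mul_add, h1, h2, add_zero]
  | neg x _ h1 => rw [mul_neg, h1, neg_zero]

theorem sq_mul_sq {u v : R} (h4 : Four L) (hu : u ∈ sq L) (hv : v ∈ sq L) : u * v = 0 := by
  induction hv using AddSubgroup.closure_induction with
  | mem v hv =>
    obtain ⟨x, hx, y, hy, rfl⟩ := hv
    rw [← mul_assoc]; exact cube_mul h4 (sq_mul_mem hu hx) hy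
  | zero => simp
  | add x y _ _ h1 h2 => rw [mul_add, h1, h2, add_zero]
  | neg x _ h1 => rw [mul_neg, h1, neg_zero]

theorem sq_mul_cube {u v : R} (h4 : Four L) (hu : u ∈ sq L) (hv : v ∈ cube L) : u * v = 0 := by
  induction hu using AddSubgroup.closure_induction with
  | mem u hu => obtain ⟨x, hx, y, hy, rfl⟩ := hu; rw [mul_assoc, mul_cube h4 hv hy, mul_zero]
  | zero => simp
  | add x y _ _ h1 h2 => rw [add_mul, h1, h2, add_zero]
  | neg x _ h1 => rw [neg_mul, h1, neg_zero]

theorem cube_mul_sq {u v : R} (h4 : Four L) (hu : u ∈ cube L) (hv : v ∈ sq L) : u * v = 0 := by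
  induction hv using AddSubgroup.closure_induction with
  | mem v hv => obtain ⟨x, hx, y, hy, rfl⟩ := hv; rw [← mul_assoc, cube_mul h4 hu hx, zero_mul]
  | zero => simp
  | add x y _ _ h1 h2 => rw [mul_add, h1, h2, add_zero]
  | neg x _ h1 => rw [mul_neg, h1, neg_zero]

theorem cube_mul_cube {u v : R} (h4 : Four L) (hu : u ∈ cube L) (hv : v ∈ cube L) : u * v = 0 := by
  induction hv using AddSubgroup.closure_induction with
  | mem v hv =>
    obtain ⟨x, hx, y, hy, z, hz, rfl⟩ := hv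
    rw [← mul_assoc, ← mul_assoc, cube_mul h4 hu hx, zero_mul, zero_mul]
  | zero => simp
  | add x y _ _ h1 h2 => rw [mul_add, h1, h2, add_zero]
  | neg x _ h1 => rw [mul_neg, h1, neg_zero]

/-- An element `1 + a₁ + a₂ + a₃` written by degree. -/
def el (a1 a2 a3 : R) : R := 1 + a1 + a2 + a3

theorem el_mul (h4 : Four L) {a1 a2 a3 b1 b2 b3 : R} (ha1 : a1 ∈ L) (ha2 : a2 ∈ sq L) (ha3 : a3 ∈ cube L)
    (hb1 : b1 ∈ L) (hb2 : b2 ∈ sq L) (hb3 : b3 ∈ cube L) :
    el a1 a2 a3 * el b1 b2 b3 = el (a1 + b1) (a2 + b2 + a1 * b1) (a3 + b3 + a1 * b2 + a2 * b1) := by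
  simp only [el, add_mul, mul_add, one_mul, mul_one, cube_mul h4 ha3 hb1, cube_mul_sq h4 ha3 hb2,
    cube_mul_cube h4 ha3 hb3, sq_mul_sq h4 ha2 hb2, sq_mul_cube h4 ha2 hb3, mul_cube h4 hb3 ha1, add_zero]
  abel

section

variable {G : Type*} [Group G] (ρ : G →* R) {p : ℕ} [Fact p.Prime] [CharP R p]

/-- The elements of the image. -/
def Img (x : R) : Prop := ∃ g : G, ρ g = x

variable {ρ}

theorem Img.mul {x y : R} (hx : Img ρ x) (hy : Img ρ y) : Img ρ (x * y) := by
  obtain ⟨g, rfl⟩ := hx; obtain ⟨h, rfl⟩ := hy; exact ⟨g * h, map_mul ρ g h⟩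

theorem Img.one : Img ρ (1 : R) := ⟨1, map_one ρ⟩

theorem Img.pow {x : R} (hx : Img ρ x) (n : ℕ) : Img ρ (x ^ n) := by
  obtain ⟨g, rfl⟩ := hx; exact ⟨g ^ n, map_pow ρ g n⟩

theorem Img.left_cancel {x y z : R} (h : x = y * z) (hx : Img ρ x) (hz : Img ρ z) : Img ρ y := by
  obtain ⟨g, rfl⟩ := hx; obtain ⟨k, rfl⟩ := hz
  refine ⟨g * k⁻¹, ?_⟩
  rw [map_mul, h, mul_assoc, ← map_mul, mul_inv_cancel, map_one, mul_one]

theorem Img.scale [Algebra (ZMod p) R] {u : R} (hu : u * u = 0) (h : Img ρ (1 + u)) (r : ZMod p) :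
    Img ρ (1 + r • u) := by
  have hp : ∀ n : ℕ, (1 + u) ^ n = 1 + n • u := by
    intro n
    induction n with
    | zero => simp
    | succ n ih =>
      rw [pow_succ, ih, succ_nsmul]
      simp only [add_mul, mul_add, one_mul, mul_one, smul_mul_assoc, hu, smul_zero, add_zero]
      abel
  have := h.pow (ρ := ρ) r.val
  rwa [hp, ← Nat.cast_smul_eq_nsmul (ZMod p), ZMod.natCast_val, ZMod.cast_id] at this

theorem exp_add [Algebra (ZMod p) R] (h4 : Four L) {h s : ZMod p} (hh : h = 3 * s) (hs : 6 * s = 1)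
    (hLs : ∀ (r : ZMod p), ∀ x ∈ L, r • x ∈ L) {x y : R} (hx : x ∈ L) (hy : y ∈ L)
    (gx : Img ρ (el x (h • (x * x)) (s • (x * x * x)))) (gy : Img ρ (el y (h • (y * y)) (s • (y * y * y)))) :
    Img ρ (el (x + y) (h • ((x + y) * (x + y))) (s • ((x + y) * (x + y) * (x + y)))) := by
  subst hh
  have h2 : ∀ {a b : R} (r : ZMod p), a ∈ L → b ∈ L → r • (a * b) ∈ sq L := fun r ha hb => by
    rw [← smul_mul_assoc]; exact mul_mem_sq (hLs r _ ha) hb
  have h3 : ∀ {a b c : R} (r : ZMod p), a ∈ L → b ∈ L → c ∈ L → r • (a * b * c) ∈ cube L :=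
    fun r ha hb hc => by
      rw [← smul_mul_assoc]; exact sq_mul_mem (h2 r ha hb) hc
  set Z := x * y - y * x with hZ
  set A3 := x * Z - Z * x with hA3
  set B3 := Z * y - y * Z with hB3
  have hZm : Z ∈ sq L := sub_mem (mul_mem_sq hx hy) (mul_mem_sq hy hx)
  have hA : A3 ∈ cube L := sub_mem (mul_sq_mem hZm hx) (sq_mul_mem hZm hx)
  have hB : B3 ∈ cube L := sub_mem (sq_mul_mem hZm hy) (mul_sq_mem hZm hy)
  have hc : ∀ (r : ZMod p) {u : R}, u ∈ cube L → r • u ∈ cube L := fun r u hu => by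
    induction hu using AddSubgroup.closure_induction with
    | mem u hu => obtain ⟨a, ha, b, hb, c, hc, rfl⟩ := hu; exact h3 r ha hb hc
    | zero => simp
    | add a b _ _ i1 i2 => rw [smul_add]; exact add_mem i1 i2
    | neg a _ i1 => rw [smul_neg]; exact neg_mem i1
  have hq : ∀ (r : ZMod p) {u : R}, u ∈ sq L → r • u ∈ sq L := fun r u hu => by
    induction hu using AddSubgroup.closure_induction with
    | mem u hu => obtain ⟨a, ha, b, hb, rfl⟩ := hu; exact h2 r ha hb
    | zero => simp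
    | add a b _ _ i1 i2 => rw [smul_add]; exact add_mem i1 i2
    | neg a _ i1 => rw [smul_neg]; exact neg_mem i1
  have z2 : (0 : R) ∈ sq L := zero_mem _
  have z3 : (0 : R) ∈ cube L := zero_mem _
  -- the commutator of the exponentials
  have hP := gx.mul gy
  have hP' := gy.mul gx
  have hK : Img ρ (el 0 Z ((3 * s) • A3 - (3 * s) • B3)) := by
    refine Img.left_cancel ?_ hP hP'
    rw [el_mul h4 hx (h2 _ hx hx) (h3 _ hx hx hx) hy (h2 _ hy hy) (h3 _ hy hy hy),
      el_mul h4 hy (h2 _ hy hy) (h3 _ hy hy hy) hx (h2 _ hx hx) (h3 _ hx hx hx),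
      el_mul h4 (zero_mem L) hZm (sub_mem (hc _ hA) (hc _ hB)) (add_mem hy hx)
        (add_mem (add_mem (h2 _ hy hy) (h2 _ hx hx)) (mul_mem_sq hy hx))
        (add_mem (add_mem (add_mem (h3 _ hy hy hy) (h3 _ hx hx hx)) (mul_sq_mem (h2 _ hx hx) hy))
          (sq_mul_mem (h2 _ hy hy) hx))]
    simp only [el, hA3, hB3, hZ, mul_add, add_mul, mul_sub, sub_mul, mul_smul_comm, smul_mul_assoc, mul_assoc,
      zero_mul, mul_zero]
    match_scalars <;> first | ring1 | linear_combination hs | linear_combination -hs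
  have hA1 : Img ρ (1 + A3) := by
    have e1 : el 0 0 A3 * (el 0 Z ((3 * s) • A3 - (3 * s) • B3) * el x ((3 * s) • (x * x)) (s • (x * x * x))) =
        el x ((3 * s) • (x * x)) (s • (x * x * x)) * el 0 Z ((3 * s) • A3 - (3 * s) • B3) := by
      rw [el_mul h4 (zero_mem L) hZm (sub_mem (hc _ hA) (hc _ hB)) hx (h2 _ hx hx) (h3 _ hx hx hx),
        el_mul h4 hx (h2 _ hx hx) (h3 _ hx hx hx) (zero_mem L) hZm (sub_mem (hc _ hA) (hc _ hB)),
        el_mul h4 (zero_mem L) z2 hA (add_mem (zero_mem L) hx)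
          (add_mem (add_mem hZm (h2 _ hx hx)) (mul_mem_sq (zero_mem L) hx))
          (add_mem (add_mem (add_mem (sub_mem (hc _ hA) (hc _ hB)) (h3 _ hx hx hx))
            (mul_sq_mem (h2 _ hx hx) (zero_mem L))) (sq_mul_mem hZm hx))]
      simp only [el, hA3, hB3, hZ, mul_add, add_mul, mul_sub, sub_mul, mul_smul_comm, smul_mul_assoc, mul_assoc,
        zero_mul, mul_zero, smul_zero, add_zero, zero_add]
      abel
    have := Img.left_cancel e1.symm (gx.mul hK) (hK.mul gx)
    simpa [el] using this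
  have hB1 : Img ρ (1 + B3) := by
    have e1 : el 0 0 B3 * (el y ((3 * s) • (y * y)) (s • (y * y * y)) * el 0 Z ((3 * s) • A3 - (3 * s) • B3)) =
        el 0 Z ((3 * s) • A3 - (3 * s) • B3) * el y ((3 * s) • (y * y)) (s • (y * y * y)) := by
      rw [el_mul h4 (zero_mem L) hZm (sub_mem (hc _ hA) (hc _ hB)) hy (h2 _ hy hy) (h3 _ hy hy hy),
        el_mul h4 hy (h2 _ hy hy) (h3 _ hy hy hy) (zero_mem L) hZm (sub_mem (hc _ hA) (hc _ hB)),
        el_mul h4 (zero_mem L) z2 hB (add_mem hy (zero_mem L))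
          (add_mem (add_mem (h2 _ hy hy) hZm) (mul_mem_sq hy (zero_mem L)))
          (add_mem (add_mem (add_mem (h3 _ hy hy hy) (sub_mem (hc _ hA) (hc _ hB))) (mul_sq_mem hZm hy))
            (sq_mul_mem (h2 _ hy hy) (zero_mem L)))]
      simp only [el, hA3, hB3, hZ, mul_add, add_mul, mul_sub, sub_mul, mul_smul_comm, smul_mul_assoc, mul_assoc,
        zero_mul, mul_zero, smul_zero, add_zero, zero_add]
      abel
    have := Img.left_cancel e1.symm (hK.mul gy) (gy.mul hK)
    simpa [el] using this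
  have hA1' : ∀ r : ZMod p, Img ρ (el 0 0 (r • A3)) := fun r => by
    simpa [el] using hA1.scale (cube_mul_cube h4 hA hA) r
  have hB1' : ∀ r : ZMod p, Img ρ (el 0 0 (r • B3)) := fun r => by
    simpa [el] using hB1.scale (cube_mul_cube h4 hB hB) r
  have hZ1 : Img ρ (1 + Z) := by
    have := (hK.mul (hA1' (-(3 * s)))).mul (hB1' (3 * s))
    rw [el_mul h4 (zero_mem L) hZm (sub_mem (hc _ hA) (hc _ hB)) (zero_mem L) z2 (hc _ hA),
      el_mul h4 (add_mem (zero_mem L) (zero_mem L)) (add_mem (add_mem hZm z2) (mul_mem_sq (zero_mem L) (zero_mem L)))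
        (add_mem (add_mem (add_mem (sub_mem (hc _ hA) (hc _ hB)) (hc _ hA)) (mul_sq_mem z2 (zero_mem L)))
          (sq_mul_mem hZm (zero_mem L))) (zero_mem L) z2 (hc _ hB)] at this
    simpa [el, neg_smul, add_assoc] using this
  have hZ2 : Img ρ (el 0 ((-(3 * s)) • Z) 0) := by
    simpa [el] using hZ1.scale (sq_mul_sq h4 hZm hZm) (-(3 * s))
  have hres := (((hP.mul hZ2).mul (hA1' s)).mul (hB1' (-(2 * s))))
  rw [el_mul h4 hx (h2 _ hx hx) (h3 _ hx hx hx) hy (h2 _ hy hy) (h3 _ hy hy hy)] at hres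
  set u2 := (3 * s) • (x * x) + (3 * s) • (y * y) + x * y with hu2d
  set u3 := s • (x * x * x) + s • (y * y * y) + x * ((3 * s) • (y * y)) + (3 * s) • (x * x) * y with hu3d
  have hu2 : u2 ∈ sq L := add_mem (add_mem (h2 _ hx hx) (h2 _ hy hy)) (mul_mem_sq hx hy)
  have hu3 : u3 ∈ cube L :=
    add_mem (add_mem (add_mem (h3 _ hx hx hx) (h3 _ hy hy hy)) (mul_sq_mem (h2 _ hy hy) hx))
      (sq_mul_mem (h2 _ hx hx) hy)
  rw [el_mul h4 (add_mem hx hy) hu2 hu3 (zero_mem L) (hq _ hZm) z3] at hres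
  set v2 := u2 + (-(3 * s)) • Z + (x + y) * 0 with hv2d
  set v3 := u3 + 0 + (x + y) * ((-(3 * s)) • Z) + u2 * 0 with hv3d
  have hv2 : v2 ∈ sq L := add_mem (add_mem hu2 (hq _ hZm)) (mul_mem_sq (add_mem hx hy) (zero_mem L))
  have hv3 : v3 ∈ cube L := add_mem (add_mem (add_mem hu3 z3) (mul_sq_mem (hq _ hZm) (add_mem hx hy)))
    (sq_mul_mem hu2 (zero_mem L))
  rw [el_mul h4 (add_mem (add_mem hx hy) (zero_mem L)) hv2 hv3 (zero_mem L) z2 (hc _ hA)] at hres
  set w2 := v2 + 0 + (x + y + 0) * 0 with hw2d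
  set w3 := v3 + s • A3 + (x + y + 0) * 0 + v2 * 0 with hw3d
  rw [el_mul h4 (L := L) (add_mem (add_mem (add_mem hx hy) (zero_mem L)) (zero_mem L))
    (add_mem (add_mem hv2 z2) (mul_mem_sq (add_mem (add_mem hx hy) (zero_mem L)) (zero_mem L)))
    (add_mem (add_mem (add_mem hv3 (hc _ hA)) (mul_sq_mem z2 (add_mem (add_mem hx hy) (zero_mem L))))
      (sq_mul_mem hv2 (zero_mem L))) (zero_mem L) z2 (hc _ hB)] at hres
  convert hres using 1
  simp only [el, hw2d, hw3d, hv2d, hv3d, hu2d, hu3d, hA3, hB3, hZ, mul_add, add_mul, mul_sub, sub_mul,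
    mul_smul_comm, smul_mul_assoc, mul_assoc, zero_mul, mul_zero]
  match_scalars <;> first | ring1 | linear_combination hs | linear_combination -hs

/-- A square zero element of the additive closure of the generators gives an element of the image. -/
theorem one_add_mem (hp5 : 5 ≤ p) {X : Set R} (hX : ∀ a ∈ X, a * a = 0 ∧ Img ρ (1 + a))
    (h4 : Four (AddSubgroup.closure X)) {x : R} (hx : x ∈ AddSubgroup.closure X) (hxx : x * x = 0) :
    Img ρ (1 + x) := by
  let := ZMod.algebra R p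
  have h6 : (6 : ZMod p) ≠ 0 := by
    intro h
    have h' : ((6 : ℕ) : ZMod p) = 0 := by exact_mod_cast h
    have := Nat.le_of_dvd (by norm_num) ((ZMod.natCast_eq_zero_iff 6 p).1 h')
    have hpp : p.Prime := Fact.out
    have hd := (ZMod.natCast_eq_zero_iff 6 p).1 h'
    rcases (show p = 5 ∨ p = 6 by omega) with rfl | rfl
    · norm_num at hd
    · norm_num at hpp
  obtain ⟨s, hs⟩ : ∃ s : ZMod p, 6 * s = 1 := ⟨(6 : ZMod p)⁻¹, by rw [mul_comm]; exact ZMod.inv_mul_of_unit _ (Ne.isUnit h6)⟩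
  have hLs : ∀ (r : ZMod p), ∀ y ∈ AddSubgroup.closure X, r • y ∈ AddSubgroup.closure X := fun r y hy => by
    rw [← ZMod.natCast_zmod_val r, Nat.cast_smul_eq_nsmul]
    exact nsmul_mem hy _
  suffices key : ∀ y ∈ AddSubgroup.closure X,
      Img ρ (el y ((3 * s) • (y * y)) (s • (y * y * y))) by
    simpa [el, hxx] using key x hx
  have hmul : ∀ y ∈ AddSubgroup.closure X, Img ρ (el y ((3 * s) • (y * y)) (s • (y * y * y))) → ∀ n : ℕ,
      Img ρ (el (n • y) ((3 * s) • (n • y * n • y)) (s • (n • y * n • y * n • y))) := by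
    intro y hy h n
    induction n with
    | zero => simpa [el] using (Img.one (ρ := ρ))
    | succ n ih =>
      rw [succ_nsmul]
      exact exp_add h4 rfl hs hLs (nsmul_mem hy n) hy ih h
  intro y hy
  induction hy using AddSubgroup.closure_induction with
  | mem a ha =>
    obtain ⟨h1, h2⟩ := hX a ha
    simpa [el, h1] using h2
  | zero => simpa [el] using (Img.one (ρ := ρ))
  | add a b ha hb i1 i2 => exact exp_add h4 rfl hs hLs ha hb i1 i2
  | neg a ha i1 =>
    have h := hmul a ha i1 (p - 1)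
    have he : (p - 1) • a = -a := eq_neg_of_add_eq_zero_left (by
      rw [← succ_nsmul, Nat.sub_add_cancel (Fact.out : p.Prime).one_lt.le, nsmul_eq_mul, CharP.cast_eq_zero,
        zero_mul])
    rwa [he] at h

end

end Cfsg.Agent.QuadLimit
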