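/-
In a `p`-group with an offender, `p ≥ 5`, some quadratic offender is normal in its normal closure: replace an
offender by the limit of its conjugates by a quadratic element; this moves it deeper in a filtration.
-/
import Cfsg.Agent.Lib.FFEmbedded.Basic
import Cfsg.Agent.Lib.QuadLimit.TruncExp
import Cfsg.Agent.Lib.QuadLimit.Limit
import Mathlib.GroupTheory.Nilpotent
import Mathlib.LinearAlgebra.Basis.VectorSpace
import Mathlib.Algebra.Module.ZMod

set_option autoImplicit false
set_option linter.unusedSectionVars false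
set_option linter.style.haveILetI false

namespace Cfsg.Agent.QuadLimit

open Cfsg.Agent.FFEmb

variable {H : Type*} [Group H] [Finite H] {W : Type*} [AddCommGroup W] [Finite W] [DistribMulAction H W]
  {p : ℕ} [Fact p.Prime]

variable (H W) in
/-- The action as a homomorphism into the endomorphisms. -/
abbrev rho : H →* AddMonoid.End W := DistribMulAction.toAddMonoidEnd H W

theorem rho_apply (g : H) (w : W) : rho H W g w = g • w := rfl

/-- The displacement of an element. -/
def dis (W : Type*) [AddCommGroup W] [DistribMulAction H W] (g : H) : AddMonoid.End W := rho H W g - 1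

theorem dis_apply (g : H) (w : W) : dis W g w = g • w - w := rfl

theorem one_add_dis (g : H) : 1 + dis W g = rho H W g := add_sub_cancel 1 _

theorem dis_conj (g a : H) : dis W (g * a * g⁻¹) = rho H W g * dis W a * rho H W g⁻¹ := by
  simp only [dis, mul_sub, sub_mul, mul_one, ← map_mul, mul_inv_cancel, map_one]

/-- Quadratic action. -/
def Quad (W : Type*) [AddCommGroup W] [DistribMulAction H W] (B : Subgroup H) : Prop :=
  ∀ a ∈ B, ∀ v : W, a • v - v ∈ fx W B

theorem Quad.mul_eq_zero {B : Subgroup H} (hB : Quad W B) {a b : H} (ha : a ∈ B) (hb : b ∈ B) :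
    dis W a * dis W b = 0 := DFunLike.ext _ _ fun v => by
  show a • (b • v - v) - (b • v - v) = 0
  rw [hB b hb v a ha, sub_self]

theorem Quad.dis_mul {B : Subgroup H} (hB : Quad W B) {a b : H} (ha : a ∈ B) (hb : b ∈ B) :
    dis W (a * b) = dis W a + dis W b := by
  have h := hB.mul_eq_zero ha hb
  simp only [dis, map_mul, mul_sub, sub_mul, one_mul, mul_one] at h ⊢
  rw [sub_sub, sub_eq_zero] at h
  rw [h]; abel

theorem Quad.dis_inv {B : Subgroup H} (hB : Quad W B) {a : H} (ha : a ∈ B) : dis W a⁻¹ = -dis W a := by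
  refine eq_neg_of_add_eq_zero_left ?_
  rw [← hB.dis_mul (inv_mem ha) ha, inv_mul_cancel, dis, map_one, sub_self]

theorem Quad.conj {B : Subgroup H} (hB : Quad W B) (k : H) : Quad W (conjS k B) := by
  rintro _ ⟨a, ha, rfl⟩ v
  rw [mem_fx_conjS]
  show k⁻¹ • ((k * a * k⁻¹) • v - v) ∈ fx W B
  rw [mul_smul, mul_smul, smul_sub, inv_smul_smul]
  exact hB a ha _

/-- The displacements of a subgroup. -/
def lg (W : Type*) [AddCommGroup W] [DistribMulAction H W] (B : Subgroup H) : AddSubgroup (AddMonoid.End W) :=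
  AddSubgroup.closure (dis W '' (B : Set H))

theorem mem_lg {B : Subgroup H} (hB : Quad W B) {x : AddMonoid.End W} :
    x ∈ lg W B ↔ ∃ a ∈ B, dis W a = x := by
  refine ⟨fun hx => ?_, fun ⟨a, ha, h⟩ => AddSubgroup.subset_closure ⟨a, ha, h⟩⟩
  induction hx using AddSubgroup.closure_induction with
  | mem x hx => obtain ⟨a, ha, rfl⟩ := hx; exact ⟨a, ha, rfl⟩
  | zero => exact ⟨1, one_mem B, by rw [dis, map_one, sub_self]⟩
  | add x y _ _ h1 h2 =>
    obtain ⟨a, ha, rfl⟩ := h1; obtain ⟨b, hb, rfl⟩ := h2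
    exact ⟨a * b, mul_mem ha hb, hB.dis_mul ha hb⟩
  | neg x _ h1 => obtain ⟨a, ha, rfl⟩ := h1; exact ⟨a⁻¹, inv_mem ha, hB.dis_inv ha⟩

theorem lg_mul {B : Subgroup H} (hB : Quad W B) : ∀ x ∈ lg W B, ∀ y ∈ lg W B, x * y = 0 := by
  intro x hx y hy
  obtain ⟨a, ha, rfl⟩ := (mem_lg hB).1 hx
  obtain ⟨b, hb, rfl⟩ := (mem_lg hB).1 hy
  exact hB.mul_eq_zero ha hb

section Faithful

variable (hfaith : ∀ g : H, (∀ v : W, g • v = v) → g = 1)
include hfaith

theorem dis_injective : Function.Injective (dis (H := H) W) := fun a b h => by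
  refine (inv_mul_eq_one.1 (hfaith (a⁻¹ * b) fun v => ?_))
  have h1 := DFunLike.congr_fun h v
  rw [dis_apply, dis_apply, sub_left_inj] at h1
  rw [mul_smul, ← h1, inv_smul_smul]

theorem card_lg {B : Subgroup H} (hB : Quad W B) : Nat.card (lg W B) = Nat.card B := by
  refine (Nat.card_congr (Equiv.ofBijective
    (fun a : B => (⟨dis W (a : H), (mem_lg hB).2 ⟨a, a.2, rfl⟩⟩ : lg W B)) ⟨fun a b h => ?_, fun x => ?_⟩)).symm
  · exact Subtype.ext (dis_injective hfaith (congrArg Subtype.val h))
  · obtain ⟨a, ha, h⟩ := (mem_lg hB).1 x.2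
    exact ⟨⟨a, ha⟩, Subtype.ext h⟩

/-- Commuting two quadratic subgroups normalizing each other. -/
theorem swap {B C : Subgroup H} (hB : Quad W B) (hC : Quad W C) (h1 : B ≤ Subgroup.normalizer (C : Set H))
    (h2 : C ≤ Subgroup.normalizer (B : Set H)) {x y : AddMonoid.End W} (hx : x ∈ lg W B) (hy : y ∈ lg W C) :
    ∃ γ, γ ∈ lg W B ∧ γ ∈ lg W C ∧ x * y = y * x + γ := by
  obtain ⟨a, ha, rfl⟩ := (mem_lg hB).1 hx
  obtain ⟨b, hb, rfl⟩ := (mem_lg hC).1 hy
  set k := a * b * a⁻¹ * b⁻¹ with hk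
  have hkB : k ∈ B := by
    rw [hk, mul_assoc a b, mul_assoc a]
    exact mul_mem ha ((Subgroup.mem_normalizer_iff.1 (h2 hb) a⁻¹).1 (inv_mem ha))
  have hkC : k ∈ C := mul_mem ((Subgroup.mem_normalizer_iff.1 (h1 ha) b).1 hb) (inv_mem hb)
  refine ⟨dis W k, (mem_lg hB).2 ⟨k, hkB, rfl⟩, (mem_lg hC).2 ⟨k, hkC, rfl⟩, ?_⟩
  have he : rho H W k * rho H W b * rho H W a = rho H W a * rho H W b := by
    rw [← map_mul, ← map_mul, ← map_mul, hk]; group
  rw [← one_add_dis k, ← one_add_dis b, ← one_add_dis a] at he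
  have z1 := hB.mul_eq_zero hkB ha
  have z2 := hC.mul_eq_zero hkC hb
  simp only [mul_add, add_mul, one_mul, mul_one, z1, z2, zero_mul, add_zero] at he
  linear_combination (norm := abel) -(1 : ℤ) • he

end Faithful

/-- The ascending series of vectors moved only into the previous term. -/
def wser (H W : Type*) [Group H] [AddCommGroup W] [DistribMulAction H W] : ℕ → AddSubgroup W
  | 0 => ⊥
  | i + 1 =>
    { carrier := {w | ∀ g : H, g • w - w ∈ wser H W i}
      zero_mem' := fun g => by rw [smul_zero, sub_zero]; exact zero_mem _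
      add_mem' := fun {a b} ha hb g => by
        rw [smul_add, add_sub_add_comm]; exact add_mem (ha g) (hb g)
      neg_mem' := fun {a} ha g => by
        rw [smul_neg, ← neg_sub', neg_mem_iff]; exact ha g }

theorem wser_mono : ∀ i, wser H W i ≤ wser H W (i + 1) := by
  intro i
  induction i with
  | zero => exact bot_le
  | succ i ih => exact fun w hw g => ih (hw g)

theorem wser_smul : ∀ (i : ℕ) (g : H) {w : W}, w ∈ wser H W i → g • w ∈ wser H W i := by
  intro i g w hw
  rcases i with - | i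
  · have : w = 0 := hw
    rw [this, smul_zero]; exact zero_mem _
  · have h := add_mem (wser_mono i (hw g)) hw
    rwa [sub_add_cancel] at h

theorem wser_top (hH : IsPGroup p H) (hexp : ∀ v : W, p • v = 0) : ∃ n, 1 ≤ n ∧ wser H W n = ⊤ := by
  suffices key : ∀ i, wser H W i = ⊤ ∨ wser H W i < wser H W (i + 1) by
    suffices hb : ∀ i, wser H W i = ⊤ ∨ i < Nat.card (wser H W i) by
      refine ⟨Nat.card W + 1, by omega, (hb _).resolve_right ?_⟩
      have := Nat.card_le_card_of_injective _ (wser H W (Nat.card W + 1)).subtype_injective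
      omega
    intro i
    induction i with
    | zero => exact Or.inr Nat.card_pos
    | succ i ih =>
      rcases ih with h | h
      · exact Or.inl (top_le_iff.1 (h ▸ wser_mono i))
      rcases key i with h' | h'
      · exact Or.inl (top_le_iff.1 (h' ▸ wser_mono i))
      have := Set.ncard_lt_ncard (SetLike.coe_ssubset_coe.2 h') (Set.toFinite _)
      exact Or.inr (by change Nat.card (wser H W i) < Nat.card (wser H W (i + 1)) at this; omega)
  intro i
  by_cases htop : wser H W i = ⊤
  · exact Or.inl htop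
  refine Or.inr (lt_of_le_of_ne (wser_mono i) fun he => ?_)
  set S := wser H W i with hS
  letI : MulAction H (W ⧸ S) :=
    { smul := fun g => Quotient.map' (g • ·) fun a b hab => by
        rw [QuotientAddGroup.leftRel_apply] at hab ⊢
        have := wser_smul i g hab
        rwa [smul_add, smul_neg] at this
      one_smul := fun q => by
        induction q using QuotientAddGroup.induction_on with
        | H w => exact congrArg QuotientAddGroup.mk (one_smul H w)
      mul_smul := fun g h q => by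
        induction q using QuotientAddGroup.induction_on with
        | H w => exact congrArg QuotientAddGroup.mk (mul_smul g h w) }
  haveI : Finite (W ⧸ S) := Quotient.finite _
  have hdvd : p ∣ Nat.card (W ⧸ S) := by
    have hne : S.index ≠ 1 := fun h => htop (AddSubgroup.index_eq_one.1 h)
    have h1 : 1 < Nat.card (W ⧸ S) := by
      have := AddSubgroup.index_ne_zero_of_finite (H := S)
      change 1 < S.index
      omega
    haveI : Nontrivial (W ⧸ S) := Finite.one_lt_card_iff_nontrivial.1 h1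
    obtain ⟨q, hq⟩ := exists_ne (0 : W ⧸ S)
    have : addOrderOf q = p := by
      refine addOrderOf_eq_prime ?_ hq
      induction q using QuotientAddGroup.induction_on with
      | H w =>
        show p • ((QuotientAddGroup.mk' S) w) = 0
        rw [← map_nsmul, hexp, map_zero]
    exact this ▸ addOrderOf_dvd_natCard q
  obtain ⟨q, hqfix, hq⟩ := hH.exists_fixed_point_of_prime_dvd_card_of_fixed_point (W ⧸ S) hdvd
    (a := (QuotientAddGroup.mk (0 : W))) (fun g => congrArg QuotientAddGroup.mk (smul_zero g))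
  induction q using QuotientAddGroup.induction_on with
  | H w =>
    refine hq (Eq.symm ?_)
    rw [QuotientAddGroup.eq]
    have hw : w ∈ wser H W (i + 1) := fun g => by
      have h := QuotientAddGroup.eq.1 ((hqfix g).symm : (w : W ⧸ S) = ((g • w : W) : W ⧸ S))
      show g • w - w ∈ S
      rwa [neg_add_eq_sub] at h
    rw [← he] at hw
    simpa using hw

/-- The endomorphisms lowering the series by `c`. -/
def filt (H W : Type*) [Group H] [AddCommGroup W] [DistribMulAction H W] (c : ℕ) :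
    AddSubgroup (AddMonoid.End W) where
  carrier := {x | ∀ i, ∀ w ∈ wser H W (i + c), x w ∈ wser H W i}
  zero_mem' := fun i _ _ => zero_mem _
  add_mem' := fun {x y} hx hy i w hw => add_mem (hx i w hw) (hy i w hw)
  neg_mem' := fun {x} hx i w hw => neg_mem (hx i w hw)

theorem card_hom_le [Nontrivial W] (hexp : ∀ v : W, p • v = 0) {C D : AddSubgroup W} {K K' : AddSubgroup (AddMonoid.End W)}
    (hK : ∀ y : AddMonoid.End W, (∀ w, y w ∈ C) → y ∈ K) (hK' : ∀ y ∈ K', ∀ w, y w ∈ D)
    (h : Nat.card K ≤ Nat.card K') : Nat.card C ≤ Nat.card D := by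
  obtain ⟨_⟩ : Nonempty (Module (ZMod p) W) := ⟨AddCommGroup.zmodModule hexp⟩
  let b := Module.Basis.ofVectorSpace (ZMod p) W
  haveI : Finite (Module.Basis.ofVectorSpaceIndex (ZMod p) W) := Subtype.finite
  haveI : Nonempty (Module.Basis.ofVectorSpaceIndex (ZMod p) W) := b.index_nonempty
  haveI : Finite (AddMonoid.End W) := Finite.of_injective (fun f : AddMonoid.End W => (f : W → W))
    DFunLike.coe_injective
  let f : (Module.Basis.ofVectorSpaceIndex (ZMod p) W → C) → K := fun c =>
    ⟨(C.subtype.comp ((b.constr ℕ c).toAddMonoidHom) : W →+ W), hK _ fun w => SetLike.coe_mem _⟩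
  have hf : Function.Injective f := fun c c' hcc => funext fun i => Subtype.ext (by
    have := DFunLike.congr_fun (congrArg Subtype.val hcc) (b i)
    change ((LinearMap.toAddMonoidHom (b.constr ℕ c) (b i) : C) : W) =
      ((LinearMap.toAddMonoidHom (b.constr ℕ c') (b i) : C) : W) at this
    simp only [LinearMap.toAddMonoidHom_coe] at this
    rwa [Module.Basis.constr_basis, Module.Basis.constr_basis] at this)
  let g : K' → (Module.Basis.ofVectorSpaceIndex (ZMod p) W → D) := fun y i => ⟨(y : AddMonoid.End W) (b i), hK' y y.2 _⟩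
  have hg : Function.Injective g := fun y y' hyy => Subtype.ext (by
    have : ((y : AddMonoid.End W) : W →+ W).toZModLinearMap p = ((y' : AddMonoid.End W) : W →+ W).toZModLinearMap p :=
      b.ext fun i => congrArg Subtype.val (congrFun hyy i)
    exact AddMonoidHom.toZModLinearMap_injective p this)
  have h1 := ((Nat.card_le_card_of_injective f hf).trans h).trans (Nat.card_le_card_of_injective g hg)
  rw [Nat.card_fun, Nat.card_fun] at h1
  exact (Nat.pow_le_pow_iff_left Nat.card_pos.ne').1 h1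

/-- An offender with quadratic action. -/
def IsQOff (W : Type*) [AddCommGroup W] [DistribMulAction H W] (B : Subgroup H) : Prop :=
  B ≠ ⊥ ∧ Quad W B ∧ Nat.card W ≤ Nat.card B * Nat.card (fx W B)

section Step

variable (hH : IsPGroup p H) (hp : 5 ≤ p) (hexp : ∀ v : W, p • v = 0)
  (hfaith : ∀ g : H, (∀ v : W, g • v = v) → g = 1)
include hH hp hexp hfaith

theorem exists_normal (h0 : ∃ B : Subgroup H, IsQOff W B) :
    ∃ A : Subgroup H, IsQOff W A ∧
      ∀ g : H, (∃ h : H, ∃ a ∈ A, g = h * a * h⁻¹) → g ∈ Subgroup.normalizer (A : Set H) := by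
  classical
  obtain ⟨n, hn1, hn⟩ := wser_top (W := W) hH hexp
  haveI : Nonempty {B : Subgroup H // IsQOff W B} := ⟨⟨_, h0.choose_spec⟩⟩
  obtain ⟨⟨A, hA⟩, hmax⟩ := Finite.exists_max fun B : {B : Subgroup H // IsQOff W B} =>
    ∑ c ∈ Finset.range n, Nat.card ↥(lg W (B : Subgroup H) ⊓ filt H W c)
  refine ⟨A, hA, ?_⟩
  obtain ⟨hAne, hAq, hAb⟩ := hA
  set D : Set H := {g | ∃ h : H, ∃ a ∈ A, g = h * a * h⁻¹} with hD
  intro g0 hg0
  by_contra hg0N
  set N := Subgroup.normalizer (A : Set H) with hNdef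
  set K := Subgroup.closure (D ∩ (N : Set H)) with hK
  have hKN : K ≤ N := (Subgroup.closure_le _).2 Set.inter_subset_right
  have hAK : A ≤ K := fun a ha =>
    Subgroup.subset_closure ⟨⟨1, a, ha, by simp⟩, Subgroup.le_normalizer ha⟩
  -- an element of `D` outside `N` normalizing `K`
  obtain ⟨b, hbD, hbK, hbN⟩ : ∃ b, b ∈ D ∧ b ∈ Subgroup.normalizer (K : Set H) ∧ b ∉ N := by
    by_contra hc
    push Not at hc
    set M := Subgroup.normalizer (K : Set H) with hM
    have htop : M = ⊤ := by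
      haveI := hH.isNilpotent
      refine (normalizerCondition_iff_only_full_group_self_normalizing.1 Group.normalizerCondition_of_isNilpotent)
        M (le_antisymm (fun x hx => ?_) Subgroup.le_normalizer)
      have hset : ∀ y ∈ Subgroup.normalizer (M : Set H), ∀ d ∈ D ∩ (N : Set H), y * d * y⁻¹ ∈ K := by
        intro y hy d hd
        have h1 : y * d * y⁻¹ ∈ D := by
          obtain ⟨h, a, ha, rfl⟩ := hd.1
          exact ⟨y * h, a, ha, by group⟩
        have h2 : y * d * y⁻¹ ∈ M :=
          (Subgroup.mem_normalizer_iff.1 hy d).1 (Subgroup.le_normalizer (Subgroup.subset_closure hd))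
        exact Subgroup.subset_closure ⟨h1, hc _ h1 h2⟩
      have hle : ∀ y ∈ Subgroup.normalizer (M : Set H), K ≤ K.comap (MulAut.conj y).toMonoidHom := fun y hy =>
        (Subgroup.closure_le _).2 fun d hd => by
          show MulAut.conj y d ∈ K
          simpa using hset y hy d hd
      rw [Subgroup.mem_normalizer_iff]
      refine fun k => ⟨fun hk => by simpa using hle x hx hk, fun hk => ?_⟩
      have := hle x⁻¹ (inv_mem hx) hk
      simpa [mul_assoc] using this
    exact hg0N (hc g0 hg0 (htop ▸ Subgroup.mem_top g0))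
  -- `b` is quadratic
  obtain ⟨h, a0, ha0, rfl⟩ := hbD
  set b := h * a0 * h⁻¹ with hbdef
  set δ := dis W b with hδdef
  have hbq : b ∈ conjS h A := ⟨a0, ha0, rfl⟩
  have hδ : δ * δ = 0 := (hAq.conj h).mul_eq_zero hbq hbq
  have hrb : rho H W b = 1 + δ := (one_add_dis b).symm
  have hrb' : rho H W b⁻¹ = 1 - δ := by
    rw [← one_add_dis b⁻¹, (hAq.conj h).dis_inv hbq, ← sub_eq_add_neg]
  have hKpow : ∀ m : ℤ, conjS (b ^ m) A ≤ N := fun m => by
    rintro _ ⟨a, ha, rfl⟩
    exact hKN ((Subgroup.mem_normalizer_iff.1 (zpow_mem hbK m) a).1 (hAK ha))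
  have hnorm : ∀ i j : ℤ, conjS (b ^ i) A ≤ Subgroup.normalizer ((conjS (b ^ j) A : Subgroup H) : Set H) := by
    intro i j x hx
    obtain ⟨a, ha, rfl⟩ := hx
    have h1 := hKpow (i - j) ⟨a, ha, rfl⟩
    rw [conjS, ← Subgroup.map_equiv_normalizer_eq A (MulAut.conj (b ^ j))]
    refine ⟨_, h1, ?_⟩
    show b ^ j * (b ^ (i - j) * a * (b ^ (i - j))⁻¹) * (b ^ j)⁻¹ = b ^ i * a * (b ^ i)⁻¹
    group
  let idx : Fin 3 → ℤ := ![0, 1, -1]
  set X : Set (AddMonoid.End W) := ⋃ i : Fin 3, (lg W (conjS (b ^ idx i) A) : Set (AddMonoid.End W)) with hX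
  have hQi : ∀ i : Fin 3, Quad W (conjS (b ^ idx i) A) := fun i => hAq.conj _
  have h3 : ∀ {i j : Fin 3} {x y x' : AddMonoid.End W}, x ∈ lg W (conjS (b ^ idx i) A) →
      y ∈ lg W (conjS (b ^ idx j) A) → x' ∈ lg W (conjS (b ^ idx i) A) → x * y * x' = 0 := by
    intro i j x y x' hx hy hx'
    obtain ⟨γ, hγ, -, he⟩ := swap hfaith (hQi i) (hQi j) (hnorm _ _) (hnorm _ _) hx hy
    rw [he, add_mul, mul_assoc, lg_mul (hQi i) x hx x' hx', mul_zero, lg_mul (hQi i) γ hγ x' hx', add_zero]
  have hfour : Four (AddSubgroup.closure X) := by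
    refine four_closure fun x hx y hy z hz w hw => ?_
    simp only [hX, Set.mem_iUnion, SetLike.mem_coe] at hx hy hz hw
    obtain ⟨i, hx⟩ := hx; obtain ⟨j, hy⟩ := hy; obtain ⟨k, hz⟩ := hz; obtain ⟨l, hw⟩ := hw
    rcases (show ∀ i j k l : Fin 3, i = j ∨ j = k ∨ k = l ∨ i = k ∨ j = l ∨ i = l by decide) i j k l with
      e | e | e | e | e | e
    · subst e; rw [lg_mul (hQi i) x hx y hy, zero_mul, zero_mul]
    · subst e; rw [mul_assoc x, lg_mul (hQi j) y hy z hz, mul_zero, zero_mul]
    · subst e; rw [mul_assoc, lg_mul (hQi k) z hz w hw, mul_zero]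
    · subst e; rw [h3 hx hy hz, zero_mul]
    · subst e; rw [mul_assoc x, mul_assoc x, h3 hy hz hw, mul_zero]
    · subst e
      obtain ⟨γ, -, hγ, he⟩ := swap hfaith (hQi k) (hQi i) (hnorm _ _) (hnorm _ _) hz hw
      rw [mul_assoc (x * y), he, mul_add, ← mul_assoc (x * y), h3 hx hy hw, zero_mul, h3 hx hy hγ, add_zero]
  set L := AddSubgroup.closure X with hL
  have hXL : ∀ i : Fin 3, lg W (conjS (b ^ idx i) A) ≤ L := fun i x hx =>
    AddSubgroup.subset_closure (Set.mem_iUnion.2 ⟨i, hx⟩)
  have hAL : lg W A ≤ L := by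
    have := hXL 0
    rwa [show idx 0 = 0 from rfl, zpow_zero, conjS_one] at this
  have hexpEnd : ∀ x : AddMonoid.End W, p • x = 0 := fun x => DFunLike.ext _ _ fun w => hexp (x w)
  have hcoef : ∀ x ∈ lg W A, δ * x - x * δ ∈ L ∧ δ * x * δ ∈ L := by
    intro x hx
    obtain ⟨a, ha, rfl⟩ := (mem_lg hAq).1 hx
    have e1 : dis W (b * a * b⁻¹) ∈ L := hXL 1 ((mem_lg (hQi 1)).2
      ⟨_, ⟨a, ha, rfl⟩, by simp [idx]⟩)
    have e2 : dis W (b⁻¹ * a * b) ∈ L := hXL 2 ((mem_lg (hQi 2)).2
      ⟨_, ⟨a, ha, rfl⟩, by simp [idx]⟩)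
    have e0 : dis W a ∈ L := hAL hx
    rw [dis_conj, hrb, hrb'] at e1
    have e2' : dis W (b⁻¹ * a * b) = (1 - δ) * dis W a * (1 + δ) := by
      rw [show b⁻¹ * a * b = b⁻¹ * a * (b⁻¹)⁻¹ by rw [inv_inv], dis_conj, hrb', inv_inv, hrb]
    rw [e2'] at e2
    have hq : δ * dis W a * δ ∈ L := by
      have h2 : (2 : ℕ) • (δ * dis W a * δ) ∈ L := by
        have := sub_mem (add_mem e0 e0) (add_mem e1 e2)
        convert this using 1
        simp only [mul_add, add_mul, mul_sub, sub_mul, one_mul, mul_one, two_nsmul]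
        abel
      have := nsmul_mem h2 ((p + 1) / 2)
      rw [← mul_nsmul] at this
      have hodd : 2 * ((p + 1) / 2) = p + 1 := by
        have := (Fact.out : p.Prime).eq_two_or_odd
        omega
      rwa [hodd, succ_nsmul, hexpEnd, zero_add] at this
    refine ⟨?_, hq⟩
    have := add_mem (sub_mem e1 e0) hq
    convert this using 1
    simp only [mul_add, add_mul, mul_sub, sub_mul, one_mul, mul_one]
    abel
  -- the limit
  haveI : Finite (AddMonoid.End W) := Finite.of_injective (fun f : AddMonoid.End W => (f : W → W))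
    DFunLike.coe_injective
  obtain ⟨a1, ha1, ha1ne⟩ := (Subgroup.bot_or_exists_ne_one A).resolve_left hAne
  haveI : Nontrivial W := by
    by_contra hnt
    rw [not_nontrivial_iff_subsingleton] at hnt
    exact ha1ne (hfaith a1 fun v => Subsingleton.elim _ _)
  haveI : Nontrivial (AddMonoid.End W) := by
    obtain ⟨v, hv⟩ := exists_ne (0 : W)
    exact ⟨⟨0, 1, fun h => hv (DFunLike.congr_fun h v).symm⟩⟩
  haveI : CharP (AddMonoid.End W) p := (CharP.charP_iff_prime_eq_zero (Fact.out : p.Prime)).2 (by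
    rw [← nsmul_one]; exact hexpEnd 1)
  set S := limit δ (lg W A) with hS
  have hSmul : ∀ x ∈ S, ∀ y ∈ S, x * y = 0 := fun x hx y hy => limit_mul hδ (lg_mul hAq) hx hy
  have hSL : S ≤ L := limit_le hAL (fun x hx => (hcoef x hx).1) fun x hx => (hcoef x hx).2
  have hSimg : ∀ x ∈ S, ∃ g : H, dis W g = x := by
    intro x hx
    obtain ⟨g, hg⟩ := one_add_mem (ρ := rho H W) (p := p) hp (X := X) (fun y hy => by
      simp only [hX, Set.mem_iUnion, SetLike.mem_coe] at hy
      obtain ⟨i, hi⟩ := hy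
      obtain ⟨c, hc, rfl⟩ := (mem_lg (hQi i)).1 hi
      exact ⟨(hQi i).mul_eq_zero hc hc, c, (one_add_dis c).symm⟩) hfour (hSL hx) (hSmul x hx x hx)
    exact ⟨g, by rw [dis, hg, add_sub_cancel_left]⟩
  have hmul : ∀ {g g' : H}, dis W g ∈ S → dis W g' ∈ S → dis W (g * g') = dis W g + dis W g' := by
    intro g g' hg hg'
    have h := hSmul _ hg _ hg'
    simp only [dis, map_mul, mul_sub, sub_mul, one_mul, mul_one] at h ⊢
    rw [sub_sub, sub_eq_zero] at h
    rw [h]; abel
  let A' : Subgroup H :=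
    { carrier := {g | dis W g ∈ S}
      one_mem' := show dis W (1 : H) ∈ S by rw [dis, map_one, sub_self]; exact zero_mem S
      mul_mem' := fun {g g'} hg hg' => show dis W (g * g') ∈ S from (hmul hg hg').symm ▸ add_mem hg hg'
      inv_mem' := fun {g} hg => by
        show dis W g⁻¹ ∈ S
        have h0 : dis W g⁻¹ * (1 + dis W g) = -dis W g := by
          rw [one_add_dis, dis, sub_mul, ← map_mul, inv_mul_cancel, map_one, one_mul, dis, neg_sub]
        have hz := hSmul _ hg _ hg
        have h2 : (1 + dis W g) * (1 - dis W g) = 1 := by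
          simp only [mul_sub, add_mul, mul_one, one_mul, hz]; abel
        rw [show dis W g⁻¹ = dis W g⁻¹ * ((1 + dis W g) * (1 - dis W g)) by rw [h2, mul_one], ← mul_assoc, h0,
          mul_sub, mul_one, neg_mul, hz, neg_zero, sub_zero]
        exact neg_mem hg }
  have hA'q : Quad W A' := fun g hg v a ha => by
    have h1 : a • (g • v - v) - (g • v - v) = 0 := DFunLike.congr_fun (hSmul _ ha _ hg) v
    exact sub_eq_zero.1 h1
  have hlgA' : lg W A' = S := le_antisymm ((AddSubgroup.closure_le _).2 (fun _ ⟨g, hg, e⟩ => e ▸ hg))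
    fun x hx => by
      obtain ⟨g, rfl⟩ := hSimg x hx
      exact (mem_lg hA'q).2 ⟨g, hx, rfl⟩
  have hcardA : Nat.card A ≤ Nat.card A' := by
    rw [← card_lg hfaith hAq, ← card_lg hfaith hA'q, hlgA']
    exact card_limit hδ _
  have hA'off : IsQOff W A' := by
    refine ⟨fun h => ?_, hA'q, hAb.trans (Nat.mul_le_mul hcardA ?_)⟩
    · rw [h, Subgroup.card_bot] at hcardA
      exact hAne (Subgroup.card_eq_one.1 (le_antisymm hcardA Nat.card_pos))
    · let K1 : AddSubgroup (AddMonoid.End W) :=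
        { carrier := {y | ∀ x ∈ lg W A, x * y = 0}
          zero_mem' := fun x _ => mul_zero x
          add_mem' := fun {y y'} h1 h2 x hx => by rw [mul_add, h1 x hx, h2 x hx, add_zero]
          neg_mem' := fun {y} h1 x hx => by rw [mul_neg, h1 x hx, neg_zero] }
      let K2 : AddSubgroup (AddMonoid.End W) :=
        { carrier := {y | ∀ x ∈ S, x * y = 0}
          zero_mem' := fun x _ => mul_zero x
          add_mem' := fun {y y'} h1 h2 x hx => by rw [mul_add, h1 x hx, h2 x hx, add_zero]
          neg_mem' := fun {y} h1 x hx => by rw [mul_neg, h1 x hx, neg_zero] }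
      refine card_hom_le (p := p) hexp (K := K1) (K' := K2) (fun y hy x hx => ?_) (fun y hy w a ha => ?_)
        (card_kills hδ (lg W A) K1 K2 (fun a ha c hc => hc a ha) fun y hy => hy)
      · obtain ⟨a, ha, rfl⟩ := (mem_lg hAq).1 hx
        exact DFunLike.ext _ _ fun w => show a • y w - y w = 0 by rw [hy w a ha, sub_self]
      · exact sub_eq_zero.1 (DFunLike.congr_fun (hy _ ha) w)
  -- the filtration
  set F := filt H W with hF
  have hmono : ∀ c, F (c + 1) ≤ F c := fun c x hx i w hw => hx i w (wser_mono (i + c) hw)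
  have hl : ∀ c, ∀ x ∈ F c, δ * x ∈ F (c + 1) := fun c x hx i w hw => by
    have := hx (i + 1) w (by rwa [show i + 1 + c = i + (c + 1) by omega])
    exact this b
  have hr : ∀ c, ∀ x ∈ F c, x * δ ∈ F (c + 1) := fun c x hx i w hw => hx i _ (hw b)
  have hFn : F n = ⊥ := (AddSubgroup.eq_bot_iff_forall _).2 fun x hx => DFunLike.ext _ _ fun w => by
    have := hx 0 w (by rw [Nat.zero_add, hn]; trivial)
    exact this
  have heq : ∀ c, c < n → Nat.card ↥(S ⊓ F c) ≤ Nat.card ↥(lg W A ⊓ F c) := by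
    have hle : ∀ c ∈ Finset.range n, Nat.card ↥(lg W A ⊓ F c) ≤ Nat.card ↥(S ⊓ F c) :=
      fun c _ => card_inf_le hδ F hmono hl hr (lg W A) c
    have h1 : ∑ c ∈ Finset.range n, Nat.card ↥(S ⊓ F c) ≤ ∑ c ∈ Finset.range n, Nat.card ↥(lg W A ⊓ F c) := by
      have := hmax ⟨A', hA'off⟩
      simpa only [hlgA'] using this
    intro c hc
    exact ((Finset.sum_eq_sum_iff_of_le hle).1 (le_antisymm (Finset.sum_le_sum hle) h1) c
      (Finset.mem_range.2 hc)).ge
  have hinv := invariant hδ F hmono hl hr (lg W A) hFn heq 0 (Nat.zero_le n)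
  refine hbN ((Subgroup.mem_normalizer_iff_map_conj_eq).2 (Subgroup.eq_of_le_of_card_ge ?_ (by
    show Nat.card A ≤ Nat.card (conjS b A)
    rw [card_conjS])))
  rintro _ ⟨a, ha, rfl⟩
  show b * a * b⁻¹ ∈ A
  have hd : dis W a ∈ lg W A ⊓ F 0 := ⟨(mem_lg hAq).2 ⟨a, ha, rfl⟩, fun i w hw => by
    rw [dis_apply]
    exact sub_mem (wser_smul i a hw) hw⟩
  obtain ⟨h1, h2⟩ := hinv _ hd
  have h3 : dis W (b * a * b⁻¹) ∈ lg W A := by
    rw [dis_conj, hrb, hrb']
    have := sub_mem (add_mem (show dis W a ∈ lg W A from hd.1) (show δ * dis W a - dis W a * δ ∈ lg W A from h1.1))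
      (show δ * dis W a * δ ∈ lg W A from h2.1)
    convert this using 1
    simp only [mul_add, add_mul, mul_sub, sub_mul, one_mul, mul_one]
    abel
  obtain ⟨a', ha', he⟩ := (mem_lg hAq).1 h3
  rwa [← dis_injective hfaith he]

end Step

end Cfsg.Agent.QuadLimit
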